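import Mathlib
import Cfsg.Prelude.Def_Local
import Cfsg.Agent.Lib.GenFitting
import Cfsg.Agent.Lib.Cores
import Cfsg.Agent.SignalizersComponents.Components
import Cfsg.Agent.SignalizersComponents.CompOrbit
import Cfsg.Agent.Characters.CNBasic
import Cfsg.Agent.FastGrp
import Cfsg.Agent.Prune
set_option linter.all false
prune_inst 0x7f00000000000000000000000000000000000000000000000000000000000000000000000000000000000000000000000000000000000000000000000000000000000000000000000000000000000000003fffffffffffffffffffffffffffbeffbdffffffff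
open scoped Cfsg.Agent.FastGrp

/-!
# Reduction to a simple `F*(G)` from the centralizer of a subgroup of order `p` (helper261)

`Loc p Z Q` : `Z` has order `p`, `C = C_G(Z)`, `Q` is a normal `p`-subgroup of `C` with `C_G(Q) ≤ Q`, `Z ≤ Q`, and every
abelian subgroup normalised by `C` and contained in `C` lies in `Z`.

* `Loc.center_of_le`, `Loc.le_cent` : a `p`-subgroup containing `Q` has centre in `Z` and centralizes `Z`;
* `Loc.le_of_normal` : if `O_{p'}(G) = 1`, then `Z` lies in every nontrivial normal subgroup;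
* `Loc.simple` : if `O_{p'}(G) = 1` and `Z` is not normal, then `F*(G)` is simple, non-abelian, contains `Z`
  and has trivial centralizer.
-/

set_option autoImplicit false

namespace Cfsg.Agent.H261

open Subgroup Cfsg
open Cfsg.Agent.SignalizersComponents.Components

/-- The local hypothesis. -/
structure Loc (p : ℕ) {G : Type*} [Group G] (Z Q : Subgroup G) : Prop where
  card : Nat.card ↥Z = p
  le : Z ≤ Q
  leC : Q ≤ centralizer (Z : Set G)
  pQ : IsPGroup p ↥Q
  norm : centralizer (Z : Set G) ≤ normalizer (Q : Set G)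
  cent : centralizer (Q : Set G) ≤ Q
  ab : ∀ A : Subgroup G, A ≤ centralizer (Z : Set G) → centralizer (Z : Set G) ≤ normalizer (A : Set G) →
    (∀ a ∈ A, ∀ b ∈ A, a * b = b * a) → A ≤ Z

variable {G : Type*} [Group G] {p : ℕ} {Z Q : Subgroup G}

theorem mem_cent_iff {Z : Subgroup G} {x : G} : x ∈ centralizer (Z : Set G) ↔ ∀ z ∈ Z, z * x = x * z :=
  Subgroup.mem_centralizer_iff

theorem mem_cent_comm {Z : Subgroup G} {x z : G} (hx : x ∈ centralizer (Z : Set G)) (hz : z ∈ Z) :
    z * x = x * z := mem_cent_iff.1 hx z hz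

/-- subgroups of prime order: equal as soon as one element is shared -/
theorem eq_of_mem_of_card_prime {p : ℕ} (hp : p.Prime) {Z Y : Subgroup G} (hZ : Nat.card ↥Z = p) {x : G} (hx : x ∈ Z)
    (hx1 : x ≠ 1) (hxY : x ∈ Y) : Z ≤ Y := by
  have : Fact p.Prime := ⟨hp⟩
  have h1 : Subgroup.zpowers x = Z := by
    have h2 : Subgroup.zpowers x ≤ Z := (Subgroup.zpowers_le).2 hx
    have h3 : Nat.card ↥(Subgroup.zpowers x) ∣ p := by
      rw [← hZ]; exact Subgroup.card_dvd_of_le h2
    have h4 : Nat.card ↥(Subgroup.zpowers x) ≠ 1 := by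
      intro h
      apply hx1
      have h5 := Subgroup.eq_bot_of_card_eq _ h
      have h6 : x ∈ Subgroup.zpowers x := Subgroup.mem_zpowers x
      rw [h5] at h6
      exact Subgroup.mem_bot.1 h6
    have h5 : Nat.card ↥(Subgroup.zpowers x) = p := ((Nat.dvd_prime hp).1 h3).resolve_left h4
    have : Finite ↥Z := Nat.finite_of_card_ne_zero (by rw [hZ]; exact hp.ne_zero)
    exact Subgroup.eq_of_le_of_card_ge h2 (by rw [h5, hZ])
  rw [← h1]
  exact (Subgroup.zpowers_le).2 hxY

/-- If `c` normalizes `Q`, it normalizes `C(Q)`. -/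
theorem conj_mem_centralizer {Q : Subgroup G} {d u : G} (hd : d ∈ normalizer (Q : Set G))
    (hu : u ∈ centralizer (Q : Set G)) : d * u * d⁻¹ ∈ centralizer (Q : Set G) := by
  rw [mem_cent_iff] at hu ⊢
  intro q hq
  have h1 : d⁻¹ * q * d ∈ Q := by
    have := (Subgroup.mem_normalizer_iff.1 ((normalizer (Q : Set G)).inv_mem hd) q).1 hq
    simpa using this
  have h2 := hu _ h1
  calc q * (d * u * d⁻¹) = d * ((d⁻¹ * q * d) * u) * d⁻¹ := by group
    _ = d * (u * (d⁻¹ * q * d)) * d⁻¹ := by rw [h2]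
    _ = d * u * d⁻¹ * q := by group

theorem mem_normalizer_of_conj {N : Subgroup G} {c : G} (h1 : ∀ y ∈ N, c * y * c⁻¹ ∈ N)
    (h2 : ∀ y ∈ N, c⁻¹ * y * c ∈ N) : c ∈ normalizer (N : Set G) := by
  rw [Subgroup.mem_normalizer_iff]
  intro y
  refine ⟨h1 y, fun hy => ?_⟩
  have h3 := h2 _ hy
  have h4 : c⁻¹ * (c * y * c⁻¹) * c = y := by group
  rwa [h4] at h3

theorem le_normalizer_of_conj {N C : Subgroup G} (h : ∀ c ∈ C, ∀ y ∈ N, c * y * c⁻¹ ∈ N) :
    C ≤ normalizer (N : Set G) := by
  intro c hc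
  refine mem_normalizer_of_conj (h c hc) fun y hy => ?_
  have h1 := h c⁻¹ (C.inv_mem hc) y hy
  rwa [inv_inv] at h1

namespace Loc

variable (h : Loc p Z Q)
include h

theorem conj_Q {c : G} (hc : c ∈ centralizer (Z : Set G)) {q : G} (hq : q ∈ Q) : c * q * c⁻¹ ∈ Q :=
  (Subgroup.mem_normalizer_iff.1 (h.norm hc) q).1 hq

theorem center_Q {x : G} (hx : x ∈ Q) (hc : ∀ y ∈ Q, y * x = x * y) : x ∈ Z := by
  have hA : Q ⊓ centralizer (Q : Set G) ≤ Z := by
    refine h.ab _ (inf_le_left.trans h.leC) ?_ ?_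
    · refine le_normalizer_of_conj fun c hc y hy => ⟨h.conj_Q hc hy.1, conj_mem_centralizer (h.norm hc) hy.2⟩
    · intro a ha b hb
      exact mem_cent_comm hb.2 ha.1
  exact hA ⟨hx, mem_cent_iff.2 hc⟩

theorem ne_bot (hp : p.Prime) : Z ≠ ⊥ := by
  intro hb
  have := h.card
  rw [hb, Subgroup.card_bot] at this
  exact hp.one_lt.ne this

theorem mem_of_comm (hp : p.Prime) {z : G} (hz : z ∈ Z) (hz1 : z ≠ 1) {c : G} (hc : z * c = c * z) :
    c ∈ centralizer (Z : Set G) := by
  have h1 : Z ≤ Subgroup.zpowers z := eq_of_mem_of_card_prime hp h.card hz hz1 (Subgroup.mem_zpowers z)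
  rw [mem_cent_iff]
  intro y hy
  obtain ⟨n, rfl⟩ := Subgroup.mem_zpowers_iff.1 (h1 hy)
  have h2 : Commute z c := hc
  exact (h2.zpow_left n).eq

theorem exists_gen (hp : p.Prime) : ∃ z ∈ Z, z ≠ 1 := by
  by_contra hcon
  push Not at hcon
  exact h.ne_bot hp ((Subgroup.eq_bot_iff_forall _).2 hcon)

/-- Every subgroup `T` containing `Q`: its centre lies in `Z`. -/
theorem center_of_le {T : Subgroup G} (hQT : Q ≤ T) {x : G}
    (hc : ∀ y ∈ T, y * x = x * y) : x ∈ Z := by
  have h1 : x ∈ centralizer (Q : Set G) := mem_cent_iff.2 fun y hy => hc y (hQT hy)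
  exact h.center_Q (h.cent h1) fun y hy => hc y (hQT hy)

variable [Finite G]

/-- A `p`-subgroup containing `Q` centralizes `Z`. -/
theorem le_cent (hp : p.Prime) {T : Subgroup G} (hT : IsPGroup p ↥T) (hQT : Q ≤ T) :
    T ≤ centralizer (Z : Set G) := by
  have : Fact p.Prime := ⟨hp⟩
  have hne : T ≠ ⊥ := by
    rintro rfl
    exact h.ne_bot hp (le_bot_iff.1 (h.le.trans hQT))
  obtain ⟨w, hw, hw1, hc⟩ := Cfsg.Agent.Characters.CNBasic.exists_mem_center_of_normal T hT T hT hne
    (fun t ht d hd => T.mul_mem (T.mul_mem ht hd) (T.inv_mem ht))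
  have hwZ := h.center_of_le hQT hc
  intro t ht
  exact h.mem_of_comm hp hwZ hw1 (hc t ht).symm

/-- A nontrivial `p`-subgroup `D` normalised by a `p`-subgroup `T ≥ Q` contains `Z`. -/
theorem le_of_normalized (hp : p.Prime) {T D : Subgroup G} (hT : IsPGroup p ↥T) (hQT : Q ≤ T) (hDp : IsPGroup p ↥D)
    (hD1 : D ≠ ⊥) (hn : ∀ t ∈ T, ∀ d ∈ D, t * d * t⁻¹ ∈ D) : Z ≤ D := by
  have : Fact p.Prime := ⟨hp⟩
  obtain ⟨w, hw, hw1, hc⟩ := Cfsg.Agent.Characters.CNBasic.exists_mem_center_of_normal T hT D hDp hD1 hn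
  exact eq_of_mem_of_card_prime hp h.card (h.center_of_le hQT hc) hw1 hw

/-- `Z` lies in every normal subgroup of order divisible by `p`. -/
theorem le_of_normal (hp : p.Prime) {N : Subgroup G} (hN : N.Normal) (hd : p ∣ Nat.card ↥N) : Z ≤ N := by
  have : Fact p.Prime := ⟨hp⟩
  obtain ⟨T, hT⟩ := h.pQ.exists_le_sylow
  obtain ⟨x, hx⟩ := exists_prime_orderOf_dvd_card' p hd
  have hx1 : (x : G) ≠ 1 := by
    intro h1
    have h2 : x = 1 := Subtype.ext h1
    rw [h2, orderOf_one] at hx
    exact hp.one_lt.ne hx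
  have hZx : IsPGroup p ↥(Subgroup.zpowers (x : G)) := by
    refine IsPGroup.of_card_dvd_pow (n := 1) ?_
    rw [Nat.card_zpowers, Subgroup.orderOf_coe, hx, pow_one]
  obtain ⟨P, hP⟩ := hZx.exists_le_sylow
  obtain ⟨g, hg⟩ := MulAction.exists_smul_eq G P T
  have hgx : g * (x : G) * g⁻¹ ∈ (T : Subgroup G) := by
    rw [← hg]
    exact Subgroup.smul_mem_pointwise_smul (x : G) (MulAut.conj g) (P : Subgroup G) (hP (Subgroup.mem_zpowers _))
  have hD1 : N ⊓ (T : Subgroup G) ≠ ⊥ := by
    intro hb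
    have h1 : g * (x : G) * g⁻¹ ∈ N ⊓ (T : Subgroup G) := ⟨hN.conj_mem _ x.2 g, hgx⟩
    rw [hb, Subgroup.mem_bot] at h1
    exact hx1 (conj_eq_one_iff.1 h1)
  refine (h.le_of_normalized hp T.isPGroup' hT (T.isPGroup'.to_le inf_le_right) hD1 ?_).trans inf_le_left
  intro t ht d hd
  exact ⟨hN.conj_mem _ hd.1 t, (T : Subgroup G).mul_mem ((T : Subgroup G).mul_mem ht hd.2) ((T : Subgroup G).inv_mem ht)⟩

theorem le_of_normal' (hp : p.Prime) (hO : pPrimeCore p G = ⊥) {N : Subgroup G} (hN : N.Normal) (hne : N ≠ ⊥) :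
    Z ≤ N := by
  refine h.le_of_normal hp hN ?_
  by_contra hnd
  apply hne
  have h1 : (Nat.card ↥N).Coprime p := ((Nat.Prime.coprime_iff_not_dvd hp).2 hnd).symm
  exact le_bot_iff.1 ((Cfsg.Agent.Lib.Cores.le_pPrimeCore hN h1).trans hO.le)

/-- `O_p(G) = 1`, if `Z` is not normal. -/
theorem pCore_eq_bot (hp : p.Prime) (hw : ∃ g : G, ∃ z ∈ Z, g * z * g⁻¹ ∉ Z) : pCore p G = ⊥ := by
  have : Fact p.Prime := ⟨hp⟩
  by_contra hne
  obtain ⟨T, hT⟩ := h.pQ.exists_le_sylow
  have hP := Cfsg.Agent.Lib.Cores.pCore_isPGroup (G := G) p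
  have hPn : (pCore p G).Normal := Cfsg.Agent.Lib.Cores.pCore_normal p
  have hZP : Z ≤ pCore p G := h.le_of_normalized hp T.isPGroup' hT hP hne (fun t _ d hd => hPn.conj_mem d hd t)
  have hcn : (centralizer (pCore p G : Set G)).Normal := inferInstance
  have hA : pCore p G ⊓ centralizer (pCore p G : Set G) ≤ Z := by
    refine h.ab _ ?_ ?_ ?_
    · intro x hx
      rw [mem_cent_iff]
      intro z hz
      exact mem_cent_comm hx.2 (hZP hz)
    · exact le_normalizer_of_conj fun c _ y hy => ⟨hPn.conj_mem y hy.1 c, hcn.conj_mem y hy.2 c⟩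
    · intro a ha b hb
      exact mem_cent_comm hb.2 ha.1
  obtain ⟨w, hw1, hw2, hc⟩ := Cfsg.Agent.Characters.CNBasic.exists_mem_center_of_normal (pCore p G) hP (pCore p G) hP hne
    (fun t ht d hd => (pCore p G).mul_mem ((pCore p G).mul_mem ht hd) ((pCore p G).inv_mem ht))
  have hwA : w ∈ pCore p G ⊓ centralizer (pCore p G : Set G) := ⟨hw1, mem_cent_iff.2 hc⟩
  have hZA : Z ≤ pCore p G ⊓ centralizer (pCore p G : Set G) :=
    eq_of_mem_of_card_prime hp h.card (hA hwA) hw2 hwA
  obtain ⟨g, z, hz, hgz⟩ := hw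
  apply hgz
  exact hA ⟨hPn.conj_mem z (hZA hz).1 g, hcn.conj_mem z (hZA hz).2 g⟩

/-- A component of `G` does not centralize `Z`. -/
theorem not_le_of_component (hp : p.Prime) {K : Subgroup G} (hK : IsComponent K) :
    ¬ K ≤ centralizer (Z : Set G) := by
  have : Fact p.Prime := ⟨hp⟩
  intro hle
  have h1 : IsComponent (K.subgroupOf (centralizer (Z : Set G))) := isComponent_subgroupOf hle hK
  have h2 : K.subgroupOf (centralizer (Z : Set G)) ≤
      normalizer ((Q.subgroupOf (centralizer (Z : Set G)) : Subgroup ↥(centralizer (Z : Set G))) :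
        Set ↥(centralizer (Z : Set G))) := by
    refine le_normalizer_of_conj fun c _ y hy => ?_
    rw [Subgroup.mem_subgroupOf] at hy ⊢
    exact h.conj_Q c.2 hy
  have h3 : Group.IsSolvable ↥(Q.subgroupOf (centralizer (Z : Set G))) := by
    have h4 : IsPGroup p ↥(Q.subgroupOf (centralizer (Z : Set G))) :=
      h.pQ.of_equiv (subgroupOfEquivOfLe h.leC).symm
    have := h4.isNilpotent
    infer_instance
  have h4 := component_commutator_solvable h1 h2 h3
  rw [commutator_eq_bot_iff_le_centralizer] at h4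
  have h5 : K ≤ Q := by
    refine le_trans ?_ h.cent
    intro k hk
    rw [mem_cent_iff]
    intro q hq
    have h6 : (⟨k, hle hk⟩ : ↥(centralizer (Z : Set G))) ∈ K.subgroupOf (centralizer (Z : Set G)) := hk
    have h7 := mem_cent_iff.1 (h4 h6) ⟨q, h.leC hq⟩ hq
    exact congrArg Subtype.val h7
  have h6 : IsPGroup p ↥K := h.pQ.to_le h5
  have := h6.isNilpotent
  exact quasisimple_not_isSolvable hK.2 inferInstance

/-- **The reduction.** If `O_{p'}(G) = 1` and `Z` is not normal in `G`, then `F*(G)` is a non-abelian simple group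
containing `Z`, with trivial centralizer. -/
theorem simple (hp : p.Prime) (hO : pPrimeCore p G = ⊥) (hw : ∃ g : G, ∃ z ∈ Z, g * z * g⁻¹ ∉ Z) :
    (generalizedFittingSubgroup G).Normal ∧ IsSimpleGroup ↥(generalizedFittingSubgroup G) ∧
    ¬ IsMulCommutative ↥(generalizedFittingSubgroup G) ∧ Z ≤ generalizedFittingSubgroup G ∧
    centralizer (generalizedFittingSubgroup G : Set G) = ⊥ := by
  have : Fact p.Prime := ⟨hp⟩
  have hP := h.pCore_eq_bot hp hw
  have hF : fittingSubgroup G = ⊥ :=
    le_bot_iff.1 ((Cfsg.Agent.SignalizersComponents.CompOrbit.fittingSubgroup_le_pCore hO).trans hP.le)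
  have hE : generalizedFittingSubgroup G = layer G := by
    rw [Cfsg.Agent.Lib.GenFitting.genFitting_def, hF, sup_bot_eq]
  have hFn : (generalizedFittingSubgroup G).Normal := Cfsg.Agent.Lib.GenFitting.genFitting_normal
  have hEn : (layer G).Normal := by rw [← hE]; exact hFn
  have hCle := Cfsg.Agent.Lib.GenFitting.centralizer_genFitting_le (G := G)
  have hcn : (centralizer (generalizedFittingSubgroup G : Set G)).Normal := inferInstance
  have hC : centralizer (generalizedFittingSubgroup G : Set G) = ⊥ := by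
    refine le_bot_iff.1 (le_trans ?_ hF.le)
    refine Cfsg.Agent.Lib.Cores.le_fittingSubgroup hcn ?_
    let _ : CommGroup ↥(centralizer (generalizedFittingSubgroup G : Set G)) :=
      { (inferInstance : Group ↥(centralizer (generalizedFittingSubgroup G : Set G))) with
        mul_comm := by
          rintro ⟨a, ha⟩ ⟨b, hb⟩
          exact Subtype.ext (mem_cent_comm hb (hCle ha)) }
    exact CommGroup.isNilpotent
  have hCE : centralizer (layer G : Set G) = ⊥ := by rw [← hE]; exact hC
  have hEne : layer G ≠ ⊥ := by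
    intro hb
    rw [hb] at hCE
    apply h.ne_bot hp
    refine le_bot_iff.1 (le_trans ?_ hCE.le)
    intro z _
    rw [mem_cent_iff]
    intro y hy
    rw [Subgroup.mem_bot.1 hy, one_mul, mul_one]
  have hZE : Z ≤ layer G := h.le_of_normal' hp hO hEn hEne
  -- a component
  obtain ⟨L, hL⟩ : ∃ L : Subgroup G, IsComponent L := by
    by_contra hcon
    push Not at hcon
    apply hEne
    rw [eq_bot_iff]
    exact (layer_le_iff).2 fun K hK => absurd hK (hcon K)
  have hLE : L ≤ layer G := component_le_layer hL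
  obtain ⟨M, hM⟩ : ∃ M, M = centralizer (L : Set G) ⊓ layer G := ⟨_, rfl⟩
  have hML : ∀ a ∈ L, ∀ b ∈ M, a * b = b * a := by
    intro a ha b hb
    rw [hM] at hb
    exact mem_cent_comm hb.1 ha
  have hLM : ∀ x ∈ L, x ∈ M → x = 1 := by
    intro x hx hxM
    have h1 : x ∈ centralizer (layer G : Set G) := by
      have h2 : layer G ≤ centralizer ({x} : Set G) := by
        rw [layer_le_iff]
        intro K hK
        intro k hk
        rw [Subgroup.mem_centralizer_singleton_iff]
        by_cases hKL : K = L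
        · subst hKL
          exact (hML k hk x hxM)
        · exact ((mem_cent_comm (component_le_centralizer_of_ne hK hL hKL hk) hx)).symm
      rw [mem_cent_iff]
      intro y hy
      exact (Subgroup.mem_centralizer_singleton_iff.1 (h2 hy))
    rw [hCE] at h1
    exact Subgroup.mem_bot.1 h1
  have hdec : ∀ x ∈ layer G, ∃ a ∈ L, ∃ b ∈ M, x = a * b := by
    let P : Subgroup G :=
      { carrier := {x | ∃ a ∈ L, ∃ b ∈ M, x = a * b}
        mul_mem' := by
          rintro _ _ ⟨a, ha, b, hb, rfl⟩ ⟨c, hc, d, hd, rfl⟩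
          refine ⟨a * c, L.mul_mem ha hc, b * d, M.mul_mem hb hd, ?_⟩
          calc a * b * (c * d) = a * (b * c) * d := by group
            _ = a * (c * b) * d := by rw [hML c hc b hb]
            _ = a * c * (b * d) := by group
        one_mem' := ⟨1, L.one_mem, 1, M.one_mem, by simp⟩
        inv_mem' := by
          rintro _ ⟨a, ha, b, hb, rfl⟩
          refine ⟨a⁻¹, L.inv_mem ha, b⁻¹, M.inv_mem hb, ?_⟩
          rw [mul_inv_rev, ← hML a⁻¹ (L.inv_mem ha) b⁻¹ (M.inv_mem hb)] }
    have h1 : layer G ≤ P := by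
      rw [layer_le_iff]
      intro K hK k hk
      by_cases hKL : K = L
      · subst hKL
        exact ⟨k, hk, 1, M.one_mem, by simp⟩
      · refine ⟨1, L.one_mem, k, ?_, by simp⟩
        rw [hM]
        exact ⟨component_le_centralizer_of_ne hK hL hKL hk, component_le_layer hK hk⟩
    intro x hx
    exact h1 hx
  -- the central subgroup of the centralizer
  have hA : layer G ⊓ centralizer (Z : Set G) ⊓ centralizer ((layer G ⊓ centralizer (Z : Set G) : Subgroup G) : Set G) ≤ Z := by
    have hn : centralizer (Z : Set G) ≤ normalizer ((layer G ⊓ centralizer (Z : Set G) : Subgroup G) : Set G) :=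
      le_normalizer_of_conj fun c hc y hy => ⟨hEn.conj_mem y hy.1 c,
        (centralizer (Z : Set G)).mul_mem ((centralizer (Z : Set G)).mul_mem hc hy.2) ((centralizer (Z : Set G)).inv_mem hc)⟩
    refine h.ab _ (inf_le_left.trans inf_le_right) ?_ ?_
    · refine le_normalizer_of_conj fun c hc y hy => ⟨(Subgroup.mem_normalizer_iff.1 (hn hc) y).1 hy.1,
        conj_mem_centralizer (hn hc) hy.2⟩
    · intro a ha b hb
      exact mem_cent_comm hb.2 ha.1
  obtain ⟨z, hz, hz1⟩ := h.exists_gen hp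
  obtain ⟨a, ha, b, hb, hzab⟩ := hdec z (hZE hz)
  have hab : a * b = b * a := hML a ha b hb
  have hbE : b ∈ layer G := by rw [hM] at hb; exact hb.2
  have hkey : ∀ y ∈ layer G, y ∈ centralizer (Z : Set G) → a * y = y * a ∧ b * y = y * b := by
    intro y hyE hyC
    obtain ⟨c, hc, d, hd, rfl⟩ := hdec y hyE
    have h1 : z * (c * d) = c * d * z := mem_cent_comm hyC hz
    rw [hzab] at h1
    have hbc := hML c hc b hb
    have hbd : a * d = d * a := hML a ha d hd
    have hcd := hML c hc d hd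
    have h2 : (a * c) * (b * d) = (c * a) * (d * b) := by
      calc (a * c) * (b * d) = a * (c * b) * d := by group
        _ = a * (b * c) * d := by rw [hbc]
        _ = a * b * (c * d) := by group
        _ = c * d * (a * b) := h1
        _ = c * (d * a) * b := by group
        _ = c * (a * d) * b := by rw [hbd]
        _ = (c * a) * (d * b) := by group
    have h3 : (c * a)⁻¹ * (a * c) = (d * b) * (b * d)⁻¹ := by
      calc (c * a)⁻¹ * (a * c) = (c * a)⁻¹ * ((a * c) * (b * d)) * (b * d)⁻¹ := by group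
        _ = (c * a)⁻¹ * ((c * a) * (d * b)) * (b * d)⁻¹ := by rw [h2]
        _ = (d * b) * (b * d)⁻¹ := by group
    have h4 : (c * a)⁻¹ * (a * c) = 1 := by
      refine hLM _ (L.mul_mem (L.inv_mem (L.mul_mem hc ha)) (L.mul_mem ha hc)) ?_
      rw [h3]
      exact M.mul_mem (M.mul_mem hd hb) (M.inv_mem (M.mul_mem hb hd))
    have h5 : a * c = c * a := by rw [inv_mul_eq_one] at h4; exact h4.symm
    have h6 : d * b = b * d := by
      rw [h4] at h3
      exact (mul_inv_eq_one.1 h3.symm)
    constructor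
    · calc a * (c * d) = (a * c) * d := by group
        _ = c * (a * d) := by rw [h5]; group
        _ = c * d * a := by rw [hbd]; group
    · calc b * (c * d) = (b * c) * d := by group
        _ = c * (b * d) := by rw [← hbc]; group
        _ = c * d * b := by rw [← h6]; group
  have haZ : a ∈ Z := by
    refine hA ⟨⟨hLE ha, h.mem_of_comm hp hz hz1 ?_⟩, mem_cent_iff.2 fun y hy => (hkey y hy.1 hy.2).1.symm⟩
    rw [hzab]
    calc a * b * a = a * (b * a) := by group
      _ = a * (a * b) := by rw [hab]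
  have hbZ : b ∈ Z := by
    refine hA ⟨⟨hbE, h.mem_of_comm hp hz hz1 ?_⟩, mem_cent_iff.2 fun y hy => (hkey y hy.1 hy.2).2.symm⟩
    rw [hzab]
    calc a * b * b = b * a * b := by rw [hab]
      _ = b * (a * b) := by group
  have ha1 : a ≠ 1 := by
    rintro rfl
    apply h.not_le_of_component hp hL
    intro x hx
    refine h.mem_of_comm hp hz hz1 ?_
    rw [hzab, one_mul]
    exact (hML x hx b hb).symm
  have hZL : Z ≤ L := eq_of_mem_of_card_prime hp h.card haZ ha1 ha
  have huniq : ∀ K : Subgroup G, IsComponent K → K = L := by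
    intro K hK
    by_contra hne
    apply h.not_le_of_component hp hK
    intro k hk
    rw [mem_cent_iff]
    intro y hy
    exact mem_cent_comm (component_le_centralizer_of_ne hK hL hne hk) (hZL hy)
  have hEL : layer G = L := by
    refine le_antisymm ?_ hLE
    rw [layer_le_iff]
    intro K hK
    rw [huniq K hK]
  have hcenter : center ↥L = ⊥ := by
    rw [eq_bot_iff]
    intro x hx
    rw [Subgroup.mem_bot]
    apply Subtype.ext
    refine hLM x x.2 ?_
    rw [hM]
    exact ⟨mem_cent_iff.2 fun y hy => congrArg Subtype.val (Subgroup.mem_center_iff.1 hx ⟨y, hy⟩), hLE x.2⟩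
  have hsimple : IsSimpleGroup ↥L := by
    have h1 : IsSimpleGroup (↥L ⧸ center ↥L) := hL.2.2
    have e : ↥L ⧸ center ↥L ≃* ↥L := (QuotientGroup.quotientMulEquivOfEq hcenter).trans QuotientGroup.quotientBot
    exact (MulEquiv.isSimpleGroup_congr e).1 h1
  refine ⟨hFn, ?_, ?_, ?_, hC⟩
  · rw [hE, hEL]; exact hsimple
  · rw [hE, hEL]; exact quasisimple_not_isMulCommutative hL.2
  · rw [hE]; exact hZE

end Loc

end Cfsg.Agent.H261
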